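import Mathlib
import Cfsg.Agent.Monster.PauliClif
set_option linter.all false

-- part: Monster/PauliGates
section
/-!
Elementary gates (`X_i`, `Z_i`, `CZ_ij`, `CNOT_ij`, unnormalised Hadamard `H_i`) acting on
functions on `F_2^n`, the automorphisms of the Pauli group which they induce, and circuits.
-/

set_option autoImplicit false
set_option linter.unusedSimpArgs false

namespace Cfsg.Agent.Monster.PauliGates

open Cfsg.Agent.Monster.PauliBasic Cfsg.Agent.Monster.PauliRep Cfsg.Agent.Monster.PauliClif

variable {n : ℕ}

/-- The `i`-th unit vector. -/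
def dl (i : Fin n) : B n := Pi.single i 1

@[simp] theorem dl_same (i : Fin n) : dl i i = 1 := by simp [dl]

theorem dl_ne {i j : Fin n} (h : j ≠ i) : dl i j = 0 := by simp [dl, h]

@[simp] theorem dl_dot (i : Fin n) (v : B n) : dl i ⬝ᵥ v = v i := by simp [dl]

@[simp] theorem dot_dl (i : Fin n) (v : B n) : v ⬝ᵥ dl i = v i := by simp [dl]

/-- Elementary gates on `n` qubits. -/
inductive Gate (n : ℕ)
  | X (i : Fin n)
  | Z (i : Fin n)
  | CZ (i j : Fin n) (h : i ≠ j)
  | CNOT (i j : Fin n) (h : i ≠ j)
  | H (i : Fin n)
deriving DecidableEq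

/-- The automorphism of the Pauli group induced by a gate, as a map. -/
def Gate.conjFun : Gate n → Pauli n → Pauli n
  | .X i, x => ⟨x.s + x.b i, x.a, x.b⟩
  | .Z i, x => ⟨x.s + x.a i, x.a, x.b⟩
  | .CZ i j _, x => ⟨x.s + x.a i * x.a j, x.a, x.b + x.a i • dl j + x.a j • dl i⟩
  | .CNOT i j _, x => ⟨x.s, x.a + x.a i • dl j, x.b + x.b j • dl i⟩
  | .H i, x => ⟨x.s + x.a i * x.b i, x.a + (x.a i + x.b i) • dl i, x.b + (x.a i + x.b i) • dl i⟩

theorem Gate.conjFun_mul (g : Gate n) (x y : Pauli n) :
    g.conjFun (x * y) = g.conjFun x * g.conjFun y := by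
  rcases g with i | i | ⟨i, j, h⟩ | ⟨i, j, h⟩ | i
  · ext k
    · simp only [conjFun, Pauli.mul_s, Pauli.mul_b, Pi.add_apply]; ring
    · rfl
    · rfl
  · ext k
    · simp only [conjFun, Pauli.mul_s, Pauli.mul_a, Pi.add_apply]; ring
    · rfl
    · rfl
  · have h' : j ≠ i := h.symm
    ext k
    · simp only [conjFun, Pauli.mul_s, Pauli.mul_a, Pi.add_apply, add_dotProduct, smul_dotProduct,
        dl_dot, smul_eq_mul]
      generalize x.b ⬝ᵥ y.a = t
      ring
    · rfl
    · simp only [conjFun, Pauli.mul_a, Pauli.mul_b, Pi.add_apply, Pi.smul_apply, smul_eq_mul]; ring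
  · have h' : j ≠ i := h.symm
    ext k
    · simp only [conjFun, Pauli.mul_s, Pauli.mul_a, Pauli.mul_b, Pi.add_apply, add_dotProduct,
        dotProduct_add, dotProduct_smul, smul_dotProduct, dl_dot, dot_dl, smul_eq_mul,
        dl_ne h', mul_zero, add_zero]
      have := zmod2_add_self (x.b j * y.a i)
      linear_combination -this
    · simp only [conjFun, Pauli.mul_a, Pi.add_apply, Pi.smul_apply, smul_eq_mul]; ring
    · simp only [conjFun, Pauli.mul_b, Pi.add_apply, Pi.smul_apply, smul_eq_mul]; ring
  · ext k
    · simp only [conjFun, Pauli.mul_s, Pauli.mul_a, Pauli.mul_b, Pi.add_apply, add_dotProduct,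
        dotProduct_add, dotProduct_smul, smul_dotProduct, dl_dot, dot_dl, smul_eq_mul, dl_same]
      generalize x.b ⬝ᵥ y.a = t
      generalize x.s = s
      generalize y.s = s'
      generalize x.a i = a
      generalize y.a i = a'
      generalize x.b i = b
      generalize y.b i = b'
      revert t s s' a a' b b'
      decide
    · simp only [conjFun, Pauli.mul_a, Pauli.mul_b, Pi.add_apply, Pi.smul_apply, smul_eq_mul]; ring
    · simp only [conjFun, Pauli.mul_a, Pauli.mul_b, Pi.add_apply, Pi.smul_apply, smul_eq_mul]; ring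

theorem Gate.conjFun_conjFun (g : Gate n) (x : Pauli n) : g.conjFun (g.conjFun x) = x := by
  rcases g with i | i | ⟨i, j, h⟩ | ⟨i, j, h⟩ | i
  · ext k
    · simp only [conjFun]
      have := zmod2_add_self (x.b i)
      linear_combination this
    · rfl
    · rfl
  · ext k
    · simp only [conjFun]
      have := zmod2_add_self (x.a i)
      linear_combination this
    · rfl
    · rfl
  · ext k
    · simp only [conjFun]
      have := zmod2_add_self (x.a i * x.a j)
      linear_combination this
    · rfl
    · simp only [conjFun, Pi.add_apply, Pi.smul_apply, smul_eq_mul]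
      have h1 := zmod2_add_self (x.a i * dl j k)
      have h2 := zmod2_add_self (x.a j * dl i k)
      linear_combination h1 + h2
  · have h' : j ≠ i := h.symm
    ext k
    · rfl
    · simp only [conjFun, Pi.add_apply, Pi.smul_apply, smul_eq_mul, dl_ne h, mul_zero, add_zero]
      have h1 := zmod2_add_self (x.a i * dl j k)
      linear_combination h1
    · simp only [conjFun, Pi.add_apply, Pi.smul_apply, smul_eq_mul, dl_ne h', mul_zero, add_zero]
      have h1 := zmod2_add_self (x.b j * dl i k)
      linear_combination h1
  · have key : ∀ s a b : ZMod 2, s + a * b + (a + (a + b) * 1) * (b + (a + b) * 1) = s := by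
      decide
    have key2 : ∀ a b t d : ZMod 2,
        t + (a + b) * d + (a + (a + b) * 1 + (b + (a + b) * 1)) * d = t := by decide
    ext k
    · simp only [conjFun, Pi.add_apply, Pi.smul_apply, smul_eq_mul, dl_same]
      exact key _ _ _
    · simp only [conjFun, Pi.add_apply, Pi.smul_apply, smul_eq_mul, dl_same]
      exact key2 _ _ _ _
    · simp only [conjFun, Pi.add_apply, Pi.smul_apply, smul_eq_mul, dl_same]
      exact key2 _ _ _ _

/-- The automorphism of the Pauli group induced by a gate. -/
def Gate.conj (g : Gate n) : Pauli n ≃* Pauli n where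
  toFun := g.conjFun
  invFun := g.conjFun
  left_inv := g.conjFun_conjFun
  right_inv := g.conjFun_conjFun
  map_mul' := g.conjFun_mul

@[simp] theorem Gate.conj_apply (g : Gate n) (x : Pauli n) : g.conj x = g.conjFun x := rfl

section op

variable (R : Type*) [CommRing R]

/-- The action of a gate on functions (`H` is not normalised). -/
def Gate.opFun : Gate n → (B n → R) → (B n → R)
  | .X i, f => fun e => f (e + dl i)
  | .Z i, f => fun e => sg R (e i) * f e
  | .CZ i j _, f => fun e => sg R (e i * e j) * f e
  | .CNOT i j _, f => fun e => f (e + e i • dl j)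
  | .H i, f => fun e => f (e + e i • dl i) + sg R (e i) * f (e + (e i + 1) • dl i)

/-- The action of a gate on functions, as a linear map. -/
def Gate.op (g : Gate n) : (B n → R) →ₗ[R] (B n → R) where
  toFun := g.opFun R
  map_add' f f' := by
    rcases g with i | i | ⟨i, j, h⟩ | ⟨i, j, h⟩ | i <;>
      (funext e; simp only [opFun, Pi.add_apply]) <;> ring
  map_smul' c f := by
    rcases g with i | i | ⟨i, j, h⟩ | ⟨i, j, h⟩ | i <;>
      (funext e; simp only [opFun, Pi.smul_apply, smul_eq_mul, RingHom.id_apply]) <;> ring

@[simp] theorem Gate.op_apply (g : Gate n) (f : B n → R) : g.op R f = g.opFun R f := rfl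

theorem Gate.op_act (g : Gate n) (x : Pauli n) :
    g.op R ∘ₗ act R x = act R (g.conj x) ∘ₗ g.op R := by
  apply LinearMap.ext
  intro f
  funext e
  rcases g with i | i | ⟨i, j, h⟩ | ⟨i, j, h⟩ | i
  · simp only [LinearMap.comp_apply, op_apply, opFun, conj_apply, conjFun, act_apply]
    congr 2
    · rw [dotProduct_add, dotProduct_add, dotProduct_add, dot_dl]; ring
    · abel
  · simp only [LinearMap.comp_apply, op_apply, opFun, conj_apply, conjFun, act_apply]
    rw [← mul_assoc, ← mul_assoc, ← sg_add, ← sg_add]
    congr 2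
    simp only [Pi.add_apply]
    have := zmod2_add_self (x.a i)
    linear_combination -this
  · simp only [LinearMap.comp_apply, op_apply, opFun, conj_apply, conjFun, act_apply]
    rw [← mul_assoc, ← mul_assoc, ← sg_add, ← sg_add]
    congr 2
    simp only [Pi.add_apply, add_dotProduct, smul_dotProduct, dl_dot, smul_eq_mul]
    generalize x.b ⬝ᵥ (e + x.a) = t
    generalize x.s = s
    generalize x.a i = a
    generalize x.a j = a'
    generalize e i = b
    generalize e j = b'
    revert t s a a' b b'
    decide
  · have h' : j ≠ i := h.symm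
    simp only [LinearMap.comp_apply, op_apply, opFun, conj_apply, conjFun, act_apply]
    congr 2
    · simp only [add_dotProduct, smul_dotProduct, dl_dot, smul_eq_mul, dotProduct_add,
        dotProduct_smul, dot_dl, dl_ne h', mul_zero, add_zero]
      have := zmod2_add_self (x.a i * x.b j)
      linear_combination -this
    · funext k
      simp only [Pi.add_apply, Pi.smul_apply, smul_eq_mul, dl_ne h, mul_zero, add_zero]
      have := zmod2_add_self (x.a i * dl j k)
      linear_combination -this
  · simp only [LinearMap.comp_apply, op_apply, opFun, conj_apply, conjFun, act_apply]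
    rcases zmod2_cases (x.a i) with ha | ha
    · have e1 : e + (x.a + (x.a i + x.b i) • dl i) +
          (e + (x.a + (x.a i + x.b i) • dl i)) i • dl i = e + e i • dl i + x.a := by
        funext k
        simp only [Pi.add_apply, Pi.smul_apply, smul_eq_mul, dl_same, ha]
        generalize e i = t
        generalize e k = t1
        generalize x.a k = t2
        generalize x.b i = t3
        generalize dl i k = t4
        revert t t1 t2 t3 t4
        decide
      have e2 : e + (x.a + (x.a i + x.b i) • dl i) +
          ((e + (x.a + (x.a i + x.b i) • dl i)) i + 1) • dl i =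
            e + (e i + 1) • dl i + x.a := by
        funext k
        simp only [Pi.add_apply, Pi.smul_apply, smul_eq_mul, dl_same, ha]
        generalize e i = t
        generalize e k = t1
        generalize x.a k = t2
        generalize x.b i = t3
        generalize dl i k = t4
        revert t t1 t2 t3 t4
        decide
      rw [e1, e2, mul_add, ← mul_assoc, ← mul_assoc, ← sg_add, ← sg_add]
      congr 3
      · simp only [add_dotProduct, smul_dotProduct, dl_dot, smul_eq_mul, dotProduct_add,
          dotProduct_smul, dot_dl, Pi.add_apply, Pi.smul_apply, dl_same, ha]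
        generalize x.s = s
        generalize x.b ⬝ᵥ e = t
        generalize x.b ⬝ᵥ x.a = t1
        generalize e i = t2
        generalize x.b i = t3
        revert s t t1 t2 t3
        decide
      · simp only [add_dotProduct, smul_dotProduct, dl_dot, smul_eq_mul, dotProduct_add,
          dotProduct_smul, dot_dl, Pi.add_apply, Pi.smul_apply, dl_same, ha]
        generalize x.s = s
        generalize x.b ⬝ᵥ e = t
        generalize x.b ⬝ᵥ x.a = t1
        generalize e i = t2
        generalize x.b i = t3
        revert s t t1 t2 t3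
        decide
    · have e1 : e + (x.a + (x.a i + x.b i) • dl i) +
          (e + (x.a + (x.a i + x.b i) • dl i)) i • dl i = e + (e i + 1) • dl i + x.a := by
        funext k
        have hk : dl i k = 0 ∨ (dl i k = 1 ∧ x.a k = 1) := by
          by_cases hki : k = i
          · subst hki; exact Or.inr ⟨dl_same k, ha⟩
          · exact Or.inl (dl_ne hki)
        simp only [Pi.add_apply, Pi.smul_apply, smul_eq_mul, dl_same, ha]
        rcases hk with hk | ⟨hk, hk'⟩
        · rw [hk]; ring
        · rw [hk, hk']
          generalize e i = t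
          generalize e k = t1
          generalize x.b i = t3
          revert t t1 t3
          decide
      have e2 : e + (x.a + (x.a i + x.b i) • dl i) +
          ((e + (x.a + (x.a i + x.b i) • dl i)) i + 1) • dl i =
            e + e i • dl i + x.a := by
        funext k
        have hk : dl i k = 0 ∨ (dl i k = 1 ∧ x.a k = 1) := by
          by_cases hki : k = i
          · subst hki; exact Or.inr ⟨dl_same k, ha⟩
          · exact Or.inl (dl_ne hki)
        simp only [Pi.add_apply, Pi.smul_apply, smul_eq_mul, dl_same, ha]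
        rcases hk with hk | ⟨hk, hk'⟩
        · rw [hk]; ring
        · rw [hk, hk']
          generalize e i = t
          generalize e k = t1
          generalize x.b i = t3
          revert t t1 t3
          decide
      rw [e1, e2, mul_add, ← mul_assoc, ← mul_assoc, ← sg_add, ← sg_add, add_comm]
      congr 3
      · simp only [add_dotProduct, smul_dotProduct, dl_dot, smul_eq_mul, dotProduct_add,
          dotProduct_smul, dot_dl, Pi.add_apply, Pi.smul_apply, dl_same, ha]
        generalize x.s = s
        generalize x.b ⬝ᵥ e = t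
        generalize x.b ⬝ᵥ x.a = t1
        generalize e i = t2
        generalize x.b i = t3
        revert s t t1 t2 t3
        decide
      · simp only [add_dotProduct, smul_dotProduct, dl_dot, smul_eq_mul, dotProduct_add,
          dotProduct_smul, dot_dl, Pi.add_apply, Pi.smul_apply, dl_same, ha]
        generalize x.s = s
        generalize x.b ⬝ᵥ e = t
        generalize x.b ⬝ᵥ x.a = t1
        generalize e i = t2
        generalize x.b i = t3
        revert s t t1 t2 t3
        decide

/-- `2` for a Hadamard gate, `1` otherwise. -/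
def Gate.nrm : Gate n → ℕ
  | .H _ => 2
  | _ => 1

theorem sum_add_right (c : B n) (F : B n → R) : ∑ e, F (e + c) = ∑ e, F e :=
  Equiv.sum_comp (Equiv.addRight c) F

theorem Gate.op_dot (g : Gate n) (f f' : B n → R) :
    g.op R f ⬝ᵥ g.op R f' = g.nrm * (f ⬝ᵥ f') := by
  rcases g with i | i | ⟨i, j, h⟩ | ⟨i, j, h⟩ | i
  · simp only [op_apply, opFun, nrm, dotProduct, Nat.cast_one, one_mul]
    exact sum_add_right R (dl i) (fun e => f e * f' e)
  · simp only [op_apply, opFun, nrm, dotProduct, Nat.cast_one, one_mul]
    apply Finset.sum_congr rfl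
    intro e _
    have := sg_mul_self R (e i)
    linear_combination (f e * f' e) * this
  · simp only [op_apply, opFun, nrm, dotProduct, Nat.cast_one, one_mul]
    apply Finset.sum_congr rfl
    intro e _
    have := sg_mul_self R (e i * e j)
    linear_combination (f e * f' e) * this
  · have h' : j ≠ i := h.symm
    simp only [op_apply, opFun, nrm, dotProduct, Nat.cast_one, one_mul]
    have hinv : Function.Involutive (fun e : B n => e + e i • dl j) := by
      intro e
      funext k
      simp only [Pi.add_apply, Pi.smul_apply, smul_eq_mul, dl_ne h, mul_zero, add_zero]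
      have := zmod2_add_self (e i * dl j k)
      linear_combination this
    exact Equiv.sum_comp hinv.toPerm (fun e => f e * f' e)
  · simp only [op_apply, opFun, nrm, dotProduct, Nat.cast_ofNat]
    have h1 : ∀ e : B n, (f (e + e i • dl i) + sg R (e i) * f (e + (e i + 1) • dl i)) *
        (f' (e + e i • dl i) + sg R (e i) * f' (e + (e i + 1) • dl i)) =
        (f e * f' e + f (e + dl i) * f' (e + dl i)) +
          sg R (e i) * (f e * f' (e + dl i) + f (e + dl i) * f' e) := by
      intro e
      rcases zmod2_cases (e i) with he | he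
      · rw [he, zero_smul, add_zero, zero_add, one_smul, sg_zero]; ring
      · have h11 : (1 + 1 : ZMod 2) = 0 := by decide
        rw [he, h11, zero_smul, add_zero, one_smul, sg_one]; ring
    rw [Finset.sum_congr rfl (fun e _ => h1 e), Finset.sum_add_distrib, Finset.sum_add_distrib,
      sum_add_right R (dl i) (fun e => f e * f' e)]
    have h2 : ∑ e : B n, sg R (e i) * (f e * f' (e + dl i) + f (e + dl i) * f' e) = 0 := by
      apply Finset.sum_involution (fun e _ => e + dl i)
      · intro e _
        rw [add_add_cancel, Pi.add_apply, dl_same, sg_add, sg_one]; ring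
      · intro e _ _ h
        have := congrFun h i
        rw [Pi.add_apply, dl_same] at this
        have h3 : (1 : ZMod 2) = 0 := by linear_combination this
        exact absurd h3 (by decide)
      · intro e _; exact Finset.mem_univ _
      · intro e _; exact add_add_cancel _ _
    rw [h2, add_zero, two_mul]

theorem Gate.op_op (g : Gate n) (f : B n → R) : g.op R (g.op R f) = (g.nrm : R) • f := by
  rcases g with i | i | ⟨i, j, h⟩ | ⟨i, j, h⟩ | i
  · funext e
    simp only [op_apply, opFun, nrm, Nat.cast_one, one_smul, add_add_cancel]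
  · funext e
    simp only [op_apply, opFun, nrm, Nat.cast_one, one_smul]
    have := sg_mul_self R (e i)
    linear_combination (f e) * this
  · funext e
    simp only [op_apply, opFun, nrm, Nat.cast_one, one_smul]
    have := sg_mul_self R (e i * e j)
    linear_combination (f e) * this
  · have h' : j ≠ i := h.symm
    funext e
    simp only [op_apply, opFun, nrm, Nat.cast_one, one_smul]
    congr 1
    funext k
    simp only [Pi.add_apply, Pi.smul_apply, smul_eq_mul, dl_ne h, mul_zero, add_zero]
    have := zmod2_add_self (e i * dl j k)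
    linear_combination this
  · funext e
    have h11 : (1 + 1 : ZMod 2) = 0 := by decide
    simp only [op_apply, opFun, nrm, Nat.cast_ofNat, Pi.smul_apply, smul_eq_mul]
    rcases zmod2_cases (e i) with he | he
    · simp only [he, zero_smul, add_zero, zero_add, one_smul, sg_zero, sg_one, Pi.add_apply,
        dl_same, h11, add_add_cancel, Pi.zero_apply]
      ring
    · simp only [he, zero_smul, add_zero, zero_add, one_smul, sg_zero, sg_one, Pi.add_apply,
        dl_same, h11, add_add_cancel, Pi.zero_apply]
      ring

/-- The linear map of a circuit; the head of the list is applied first. -/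
def opL : List (Gate n) → ((B n → R) →ₗ[R] (B n → R))
  | [] => LinearMap.id
  | g :: L => opL L ∘ₗ g.op R

/-- The automorphism of the Pauli group induced by a circuit. -/
def conjL : List (Gate n) → (Pauli n ≃* Pauli n)
  | [] => 1
  | g :: L => conjL L * g.conj

/-- The factor by which the form is multiplied. -/
def nrmL : List (Gate n) → ℕ
  | [] => 1
  | g :: L => g.nrm * nrmL L

theorem opL_act (L : List (Gate n)) (x : Pauli n) :
    opL R L ∘ₗ act R x = act R (conjL L x) ∘ₗ opL R L := by
  induction L generalizing x with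
  | nil => rfl
  | cons g L ih =>
    show (opL R L ∘ₗ g.op R) ∘ₗ act R x = act R (conjL L (g.conj x)) ∘ₗ (opL R L ∘ₗ g.op R)
    rw [LinearMap.comp_assoc, Gate.op_act R g, ← LinearMap.comp_assoc, ih, LinearMap.comp_assoc]

theorem opL_dot (L : List (Gate n)) (f f' : B n → R) :
    opL R L f ⬝ᵥ opL R L f' = nrmL L * (f ⬝ᵥ f') := by
  induction L generalizing f f' with
  | nil => simp [opL, nrmL]
  | cons g L ih =>
    show opL R L (g.op R f) ⬝ᵥ opL R L (g.op R f') = _
    rw [ih, Gate.op_dot R g]
    simp only [nrmL, Nat.cast_mul]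
    ring

theorem opL_append (L L' : List (Gate n)) : opL R (L ++ L') = opL R L' ∘ₗ opL R L := by
  induction L with
  | nil => rfl
  | cons g L ih =>
    show opL R (L ++ L') ∘ₗ g.op R = opL R L' ∘ₗ (opL R L ∘ₗ g.op R)
    rw [ih, LinearMap.comp_assoc]

theorem opL_reverse (L : List (Gate n)) (f : B n → R) :
    opL R L.reverse (opL R L f) = (nrmL L : R) • f := by
  induction L generalizing f with
  | nil => simp [opL, nrmL]
  | cons g L ih =>
    show opL R (g :: L).reverse (opL R L (g.op R f)) = _
    rw [List.reverse_cons, opL_append, LinearMap.comp_apply, ih]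
    show g.op R ((nrmL L : R) • g.op R f) = _
    rw [map_smul, Gate.op_op R g, smul_smul]
    simp only [nrmL, Nat.cast_mul]
    rw [mul_comm]

theorem nrmL_append (L L' : List (Gate n)) : nrmL (L ++ L') = nrmL L * nrmL L' := by
  induction L with
  | nil => simp [nrmL]
  | cons g L ih => simp only [List.cons_append, nrmL, ih, mul_assoc]

theorem nrmL_reverse (L : List (Gate n)) : nrmL L.reverse = nrmL L := by
  induction L with
  | nil => rfl
  | cons g L ih =>
    rw [List.reverse_cons, nrmL_append, ih]
    simp only [nrmL, mul_one]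
    exact mul_comm _ _

/-- A circuit, rescaled by `c` with `c² · 2^(number of Hadamards) = 1`, gives an element of the
Clifford group. -/
def clifOf (L : List (Gate n)) (c : R) (hc : c * c * nrmL L = 1) :
    (Pauli n ≃* Pauli n) × ((B n → R) ≃ₗ[R] (B n → R)) :=
  (conjL L, LinearEquiv.ofLinearMap (c • opL R L) (c • opL R L.reverse)
    (by
      apply LinearMap.ext
      intro f
      simp only [LinearMap.comp_apply, LinearMap.smul_apply, map_smul, smul_smul,
        LinearMap.id_apply]
      have h := opL_reverse R L.reverse f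
      rw [List.reverse_reverse] at h
      rw [h, smul_smul, nrmL_reverse, hc, one_smul])
    (by
      apply LinearMap.ext
      intro f
      simp only [LinearMap.comp_apply, LinearMap.smul_apply, map_smul, smul_smul,
        LinearMap.id_apply]
      rw [opL_reverse, smul_smul, hc, one_smul]))

theorem clifOf_snd_apply (L : List (Gate n)) (c : R) (hc : c * c * nrmL L = 1) (f : B n → R) :
    (clifOf R L c hc).2 f = c • opL R L f := rfl

theorem clifOf_fst (L : List (Gate n)) (c : R) (hc : c * c * nrmL L = 1) :
    (clifOf R L c hc).1 = conjL L := rfl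

theorem clifOf_mem (L : List (Gate n)) (c : R) (hc : c * c * nrmL L = 1) :
    clifOf R L c hc ∈ clif n R := by
  constructor
  · intro x
    apply LinearEquiv.ext
    intro f
    show c • opL R L (act R x f) = act R (conjL L x) (c • opL R L f)
    rw [map_smul]
    congr 1
    exact LinearMap.congr_fun (opL_act R L x) f
  · intro f f'
    rw [clifOf_snd_apply, clifOf_snd_apply, smul_dotProduct, dotProduct_smul, opL_dot,
      smul_eq_mul, smul_eq_mul]
    linear_combination (f ⬝ᵥ f') * hc

end op

end Cfsg.Agent.Monster.PauliGates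
end

-- part: Monster/PauliBits
section
/-!
Natural number codes. A binary vector `e : B n` is coded by `idx e = Σ e_i 2^i`, a Pauli element
`(s, a, b)` by `s * 2^(2n) + a * 2^n + b`; gates act on the codes of Pauli elements by a few bit
operations.
-/

set_option autoImplicit false
set_option linter.unusedSimpArgs false

namespace Cfsg.Agent.Monster.PauliBits

open Cfsg.Agent.Monster.PauliBasic Cfsg.Agent.Monster.PauliRep Cfsg.Agent.Monster.PauliClif
open Cfsg.Agent.Monster.PauliGates

variable {n : ℕ}

/-- The `k`-th bit of `x`, as an element of `ZMod 2`. -/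
def bit (x k : ℕ) : ZMod 2 := if x.testBit k then 1 else 0

@[simp] theorem bit_zero (k : ℕ) : bit 0 k = 0 := by simp [bit]

theorem bit_xor (x y k : ℕ) : bit (x ^^^ y) k = bit x k + bit y k := by
  unfold bit
  rw [Nat.testBit_xor]
  cases x.testBit k <;> cases y.testBit k <;> decide

theorem bit_and (x y k : ℕ) : bit (x &&& y) k = bit x k * bit y k := by
  unfold bit
  rw [Nat.testBit_and]
  cases x.testBit k <;> cases y.testBit k <;> decide

theorem bit_shiftLeft (x m k : ℕ) : bit (x <<< m) k = if m ≤ k then bit x (k - m) else 0 := by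
  unfold bit
  rw [Nat.testBit_shiftLeft]
  by_cases h : m ≤ k
  · simp [h]
  · simp [h]

theorem bit_shiftRight (x m k : ℕ) : bit (x >>> m) k = bit x (m + k) := by
  unfold bit
  rw [Nat.testBit_shiftRight]

theorem bit_eq_zero_of_lt {x k : ℕ} (h : x < 2 ^ k) : bit x k = 0 := by
  simp [bit, Nat.testBit_lt_two_pow h]

theorem bit_one (k : ℕ) : bit 1 k = if k = 0 then 1 else 0 := by
  rcases Nat.eq_zero_or_pos k with rfl | h
  · simp [bit]
  · rw [bit_eq_zero_of_lt (Nat.one_lt_two_pow h.ne'), if_neg h.ne']

/-- The `k`-th bit of `x` as a number. -/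
def b1 (x k : ℕ) : ℕ := (x >>> k) &&& 1

theorem bit_b1 (x k t : ℕ) : bit (b1 x k) t = if t = 0 then bit x k else 0 := by
  unfold b1
  rw [bit_and, bit_shiftRight, bit_one]
  split_ifs with h
  · subst h; simp
  · simp

theorem bit_b1_shiftLeft (x k m t : ℕ) :
    bit (b1 x k <<< m) t = if t = m then bit x k else 0 := by
  rw [bit_shiftLeft, bit_b1]
  by_cases h : t = m
  · subst h; simp
  · by_cases h' : m ≤ t
    · have : t - m ≠ 0 := by omega
      simp [h, h', this]
    · simp [h, h']

theorem bit_and_shiftLeft (x k l m t : ℕ) :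
    bit ((b1 x k &&& b1 x l) <<< m) t = if t = m then bit x k * bit x l else 0 := by
  rw [bit_shiftLeft, bit_and, bit_b1, bit_b1]
  by_cases h : t = m
  · subst h; simp
  · by_cases h' : m ≤ t
    · have : t - m ≠ 0 := by omega
      simp [h, h', this]
    · simp [h, h']

theorem bit_xor_shiftLeft (x k l m t : ℕ) :
    bit ((b1 x k ^^^ b1 x l) <<< m) t = if t = m then bit x k + bit x l else 0 := by
  rw [bit_shiftLeft, bit_xor, bit_b1, bit_b1]
  by_cases h : t = m
  · subst h; simp
  · by_cases h' : m ≤ t
    · have : t - m ≠ 0 := by omega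
      simp [h, h', this]
    · simp [h, h']

section vec

/-- The binary vector with code `x`. -/
def vec (n x : ℕ) : B n := fun i => bit x i

/-- The code of a binary vector. -/
def idx (e : B n) : ℕ := Nat.ofBits (fun i => decide (e i = 1))

theorem testBit_idx (e : B n) (k : ℕ) :
    (idx e).testBit k = if h : k < n then decide (e ⟨k, h⟩ = 1) else false := by
  unfold idx
  rw [Nat.testBit_ofBits]

theorem bit_idx (e : B n) (i : Fin n) : bit (idx e) i = e i := by
  unfold bit
  rw [testBit_idx, dif_pos i.2]
  rcases zmod2_cases (e i) with h | h <;> simp [h]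

theorem idx_lt (e : B n) : idx e < 2 ^ n := Nat.ofBits_lt_two_pow _

theorem vec_idx (e : B n) : vec n (idx e) = e := by
  funext i
  exact bit_idx e i

theorem bit_eq_one_iff (x k : ℕ) : bit x k = 1 ↔ x.testBit k = true := by
  unfold bit
  cases x.testBit k <;> simp

theorem idx_vec_mod (x : ℕ) : idx (vec n x) = x % 2 ^ n := by
  have : (fun i : Fin n => decide (vec n x i = 1)) = fun i : Fin n => x.testBit i := by
    funext i
    show decide (bit x i = 1) = _
    rw [Bool.eq_iff_iff]
    simp [bit_eq_one_iff]
  unfold idx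
  rw [this, Nat.ofBits_testBit]

theorem idx_vec {x : ℕ} (h : x < 2 ^ n) : idx (vec n x) = x := by
  rw [idx_vec_mod, Nat.mod_eq_of_lt h]

theorem vec_xor (x y : ℕ) : vec n (x ^^^ y) = vec n x + vec n y := by
  funext i
  exact bit_xor x y i

theorem vec_zero : vec n 0 = 0 := by
  funext i
  exact bit_zero i

theorem idx_add (e e' : B n) : idx (e + e') = idx e ^^^ idx e' := by
  have h : vec n (idx e ^^^ idx e') = e + e' := by rw [vec_xor, vec_idx, vec_idx]
  rw [← h, idx_vec (Nat.xor_lt_two_pow (idx_lt e) (idx_lt e'))]

theorem idx_injective : Function.Injective (idx : B n → ℕ) := by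
  intro e e' h
  rw [← vec_idx e, h, vec_idx]

/-- Binary vectors are the numbers below `2^n`. -/
def equivFin (n : ℕ) : B n ≃ Fin (2 ^ n) where
  toFun e := ⟨idx e, idx_lt e⟩
  invFun x := vec n x
  left_inv e := vec_idx e
  right_inv x := Fin.ext (idx_vec x.2)

end vec

section dec

/-- The Pauli element with code `x = s * 2^(2n) + a * 2^n + b`. -/
def dec (n x : ℕ) : Pauli n := ⟨bit x (2 * n), fun i => bit x (n + i), fun i => bit x i⟩

/-- The code of a Pauli element. -/
def enc (x : Pauli n) : ℕ := (if x.s = 1 then 2 ^ (2 * n) else 0) + idx x.a * 2 ^ n + idx x.b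

/-- The action of a gate on codes of Pauli elements. -/
def conjN : Gate n → ℕ → ℕ
  | .X i, x => x ^^^ (b1 x i <<< (2 * n))
  | .Z i, x => x ^^^ (b1 x (n + i) <<< (2 * n))
  | .CZ i j _, x => x ^^^ (((b1 x (n + i)) &&& (b1 x (n + j))) <<< (2 * n)) ^^^
      (b1 x (n + i) <<< j.val) ^^^ (b1 x (n + j) <<< i.val)
  | .CNOT i j _, x => x ^^^ (b1 x (n + i) <<< (n + j)) ^^^ (b1 x j <<< i.val)
  | .H i, x => x ^^^ (((b1 x (n + i)) &&& (b1 x i)) <<< (2 * n)) ^^^
      ((b1 x (n + i) ^^^ b1 x i) <<< (n + i)) ^^^ ((b1 x (n + i) ^^^ b1 x i) <<< i.val)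

theorem dl_apply (i k : Fin n) : dl i k = if k.val = i.val then 1 else 0 := by
  by_cases h : k = i
  · subst h; simp
  · rw [dl_ne h, if_neg (fun h' => h (Fin.ext h'))]

theorem dec_conjN (g : Gate n) (x : ℕ) : dec n (conjN g x) = g.conj (dec n x) := by
  rcases g with i | i | ⟨i, j, h⟩ | ⟨i, j, h⟩ | i
  · ext k
    · simp only [dec, conjN, Gate.conj_apply, Gate.conjFun, bit_xor, bit_b1_shiftLeft, if_true]
    · have hk := k.2
      have h1 : n + k.val ≠ 2 * n := by omega
      simp only [dec, conjN, Gate.conj_apply, Gate.conjFun, bit_xor, bit_b1_shiftLeft, h1,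
        if_false, add_zero]
    · have hk := k.2
      have h1 : k.val ≠ 2 * n := by omega
      simp only [dec, conjN, Gate.conj_apply, Gate.conjFun, bit_xor, bit_b1_shiftLeft, h1,
        if_false, add_zero]
  · ext k
    · simp only [dec, conjN, Gate.conj_apply, Gate.conjFun, bit_xor, bit_b1_shiftLeft, if_true]
    · have hk := k.2
      have h1 : n + k.val ≠ 2 * n := by omega
      simp only [dec, conjN, Gate.conj_apply, Gate.conjFun, bit_xor, bit_b1_shiftLeft, h1,
        if_false, add_zero]
    · have hk := k.2
      have h1 : k.val ≠ 2 * n := by omega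
      simp only [dec, conjN, Gate.conj_apply, Gate.conjFun, bit_xor, bit_b1_shiftLeft, h1,
        if_false, add_zero]
  · have hi := i.2
    have hj := j.2
    have e1 : 2 * n ≠ j.val := by omega
    have e2 : 2 * n ≠ i.val := by omega
    ext k
    · simp only [dec, conjN, Gate.conj_apply, Gate.conjFun, bit_xor, bit_b1_shiftLeft,
        bit_and_shiftLeft, if_true, e1, e2, if_false, add_zero]
    · have hk := k.2
      have h1 : n + k.val ≠ 2 * n := by omega
      have h2 : n + k.val ≠ j.val := by omega
      have h3 : n + k.val ≠ i.val := by omega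
      simp only [dec, conjN, Gate.conj_apply, Gate.conjFun, bit_xor, bit_b1_shiftLeft,
        bit_and_shiftLeft, h1, h2, h3, if_false, add_zero]
    · have hk := k.2
      have h1 : k.val ≠ 2 * n := by omega
      simp only [dec, conjN, Gate.conj_apply, Gate.conjFun, bit_xor, bit_b1_shiftLeft,
        bit_and_shiftLeft, h1, if_false, add_zero, Pi.add_apply, Pi.smul_apply, smul_eq_mul,
        dl_apply, mul_ite, mul_one, mul_zero]
  · have hi := i.2
    have hj := j.2
    have e1 : 2 * n ≠ n + j.val := by omega
    have e2 : 2 * n ≠ i.val := by omega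
    ext k
    · simp only [dec, conjN, Gate.conj_apply, Gate.conjFun, bit_xor, bit_b1_shiftLeft,
        bit_and_shiftLeft, if_true, e1, e2, if_false, add_zero]
    · have hk := k.2
      have h1 : (n + k.val = n + j.val) = (k.val = j.val) := by
        apply propext; omega
      have h3 : n + k.val ≠ i.val := by omega
      simp only [dec, conjN, Gate.conj_apply, Gate.conjFun, bit_xor, bit_b1_shiftLeft,
        bit_and_shiftLeft, h1, h3, if_false, add_zero, Pi.add_apply, Pi.smul_apply, smul_eq_mul,
        dl_apply, mul_ite, mul_one, mul_zero]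
    · have hk := k.2
      have h1 : k.val ≠ n + j.val := by omega
      simp only [dec, conjN, Gate.conj_apply, Gate.conjFun, bit_xor, bit_b1_shiftLeft,
        bit_and_shiftLeft, h1, if_false, add_zero, Pi.add_apply, Pi.smul_apply, smul_eq_mul,
        dl_apply, mul_ite, mul_one, mul_zero]
  · have hi := i.2
    have e1 : 2 * n ≠ n + i.val := by omega
    have e2 : 2 * n ≠ i.val := by omega
    ext k
    · simp only [dec, conjN, Gate.conj_apply, Gate.conjFun, bit_xor, bit_b1_shiftLeft,
        bit_and_shiftLeft, bit_xor_shiftLeft, if_true, e1, e2, if_false, add_zero]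
    · have hk := k.2
      have h0 : n + k.val ≠ 2 * n := by omega
      have h1 : (n + k.val = n + i.val) = (k.val = i.val) := by
        apply propext; omega
      have h3 : n + k.val ≠ i.val := by omega
      simp only [dec, conjN, Gate.conj_apply, Gate.conjFun, bit_xor, bit_b1_shiftLeft,
        bit_and_shiftLeft, bit_xor_shiftLeft, h0, h1, h3, if_false, add_zero, Pi.add_apply,
        Pi.smul_apply, smul_eq_mul, dl_apply, mul_ite, mul_one, mul_zero]
    · have hk := k.2
      have h0 : k.val ≠ 2 * n := by omega
      have h1 : k.val ≠ n + i.val := by omega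
      simp only [dec, conjN, Gate.conj_apply, Gate.conjFun, bit_xor, bit_b1_shiftLeft,
        bit_and_shiftLeft, bit_xor_shiftLeft, h0, h1, if_false, add_zero, Pi.add_apply,
        Pi.smul_apply, smul_eq_mul, dl_apply, mul_ite, mul_one, mul_zero]

/-- The action of a circuit on codes of Pauli elements. -/
def conjNL : List (Gate n) → ℕ → ℕ
  | [], x => x
  | g :: L, x => conjNL L (conjN g x)

theorem dec_conjNL (L : List (Gate n)) (x : ℕ) : dec n (conjNL L x) = conjL L (dec n x) := by
  induction L generalizing x with
  | nil => rfl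
  | cons g L ih =>
    show dec n (conjNL L (conjN g x)) = conjL L (g.conj (dec n x))
    rw [ih, dec_conjN]

theorem dec_X (i : Fin n) : dec n (2 ^ (n + i.val)) = ⟨0, dl i, 0⟩ := by
  have h : ∀ m t : ℕ, bit (2 ^ m) t = if t = m then 1 else 0 := by
    intro m t
    have := bit_b1_shiftLeft 1 0 m t
    simpa [b1, bit_one, Nat.one_shiftLeft] using this
  have hi := i.2
  ext k
  · have : 2 * n ≠ n + i.val := by omega
    simp only [dec, h, this, if_false]
  · have h1 : (n + k.val = n + i.val) = (k.val = i.val) := by
      apply propext; omega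
    simp only [dec, h, dl_apply, h1]
  · have hk := k.2
    have : k.val ≠ n + i.val := by omega
    simp only [dec, h, this, if_false, Pi.zero_apply]

theorem dec_Z (i : Fin n) : dec n (2 ^ i.val) = ⟨0, 0, dl i⟩ := by
  have h : ∀ m t : ℕ, bit (2 ^ m) t = if t = m then 1 else 0 := by
    intro m t
    have := bit_b1_shiftLeft 1 0 m t
    simpa [b1, bit_one, Nat.one_shiftLeft] using this
  have hi := i.2
  ext k
  · have : 2 * n ≠ i.val := by omega
    simp only [dec, h, this, if_false]
  · have : n + k.val ≠ i.val := by omega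
    simp only [dec, h, this, if_false, Pi.zero_apply]
  · simp only [dec, h, dl_apply]

theorem vec_dot_vec (x y : ℕ) : vec n x ⬝ᵥ vec n y = ∑ i ∈ Finset.range n, bit (x &&& y) i := by
  unfold dotProduct
  rw [Finset.sum_range]
  apply Finset.sum_congr rfl
  intro i _
  exact (bit_and x y i).symm

/-- Parity of the number of ones of a number below `2^32`. -/
def par32 (x : ℕ) : ℕ :=
  let x := x ^^^ (x >>> 16)
  let x := x ^^^ (x >>> 8)
  let x := x ^^^ (x >>> 4)
  let x := x ^^^ (x >>> 2)
  let x := x ^^^ (x >>> 1)
  x &&& 1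

theorem bit_par32 (x : ℕ) (t : ℕ) :
    bit (par32 x) t = if t = 0 then ∑ i ∈ Finset.range 32, bit x i else 0 := by
  unfold par32
  simp only
  rw [bit_and, bit_one]
  split_ifs with h
  · subst h
    simp only [bit_xor, bit_shiftRight, Finset.sum_range_succ, Finset.sum_range_zero, mul_one]
    norm_num
    abel
  · simp

theorem bit_par32_shiftLeft (x m t : ℕ) :
    bit (par32 x <<< m) t = if t = m then ∑ i ∈ Finset.range 32, bit x i else 0 := by
  rw [bit_shiftLeft, bit_par32]
  by_cases h : t = m
  · subst h; simp
  · by_cases h' : m ≤ t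
    · have : t - m ≠ 0 := by omega
      simp [h, h', this]
    · simp [h, h']

theorem sum_range_32 {x : ℕ} (hn : n ≤ 32) (hx : x < 2 ^ n) :
    ∑ i ∈ Finset.range 32, bit x i = ∑ i ∈ Finset.range n, bit x i := by
  symm
  apply Finset.sum_subset
  · intro i hi
    rw [Finset.mem_range] at hi ⊢
    omega
  · intro i _ hi
    rw [Finset.mem_range] at hi
    apply bit_eq_zero_of_lt
    exact lt_of_lt_of_le hx (Nat.pow_le_pow_right (by norm_num) (by omega))

/-- Multiplication of codes of Pauli elements (`n ≤ 32`). -/
def mulN (n x y : ℕ) : ℕ :=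
  x ^^^ y ^^^ (par32 ((x &&& (2 ^ n - 1)) &&& (y >>> n)) <<< (2 * n))

theorem dec_mulN (hn : n ≤ 32) (x y : ℕ) : dec n (mulN n x y) = dec n x * dec n y := by
  have hlt : (x &&& (2 ^ n - 1)) &&& (y >>> n) < 2 ^ n := by
    refine lt_of_le_of_lt Nat.and_le_left ?_
    rw [Nat.and_two_pow_sub_one_eq_mod]
    exact Nat.mod_lt _ (by positivity)
  ext k
  · simp only [dec, mulN, Pauli.mul_s, bit_xor, bit_par32_shiftLeft, if_true]
    rw [sum_range_32 hn hlt]
    congr 1
    unfold dotProduct
    rw [Finset.sum_range]
    apply Finset.sum_congr rfl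
    intro i _
    have h1 : bit (2 ^ n - 1) i = 1 := by
      simp [bit, Nat.testBit_two_pow_sub_one]
    simp only [bit_and, bit_shiftRight, h1, mul_one]
  · have hk := k.2
    have h0 : n + k.val ≠ 2 * n := by omega
    simp only [dec, mulN, Pauli.mul_a, bit_xor, bit_par32_shiftLeft, h0, if_false, add_zero,
      Pi.add_apply]
  · have hk := k.2
    have h0 : k.val ≠ 2 * n := by omega
    simp only [dec, mulN, Pauli.mul_b, bit_xor, bit_par32_shiftLeft, h0, if_false, add_zero,
      Pi.add_apply]

end dec

section ext

/-- Two homomorphisms out of the Pauli group which agree on `z`, the `X_i` and the `Z_i` are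
equal. -/
theorem hom_ext {G : Type*} [Group G] {f g : Pauli n →* G} (hz : f (Pauli.z n) = g (Pauli.z n))
    (hX : ∀ i, f ⟨0, dl i, 0⟩ = g ⟨0, dl i, 0⟩) (hZ : ∀ i, f ⟨0, 0, dl i⟩ = g ⟨0, 0, dl i⟩) :
    f = g := by
  have hs : ∀ s, f ⟨s, 0, 0⟩ = g ⟨s, 0, 0⟩ := by
    intro s
    rcases zmod2_cases s with rfl | rfl
    · exact (map_one f).trans (map_one g).symm
    · exact hz
  have hA : ∀ S : Finset (Fin n), f ⟨0, ∑ i ∈ S, dl i, 0⟩ = g ⟨0, ∑ i ∈ S, dl i, 0⟩ := by
    intro S
    induction S using Finset.induction_on with
    | empty => simpa using hs 0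
    | insert i S hi ih =>
      have : (⟨0, ∑ j ∈ insert i S, dl j, 0⟩ : Pauli n) =
          ⟨0, dl i, 0⟩ * ⟨0, ∑ j ∈ S, dl j, 0⟩ := by
        rw [Finset.sum_insert hi]
        ext k <;> simp
      rw [this, map_mul, map_mul, hX, ih]
  have hB : ∀ S : Finset (Fin n), f ⟨0, 0, ∑ i ∈ S, dl i⟩ = g ⟨0, 0, ∑ i ∈ S, dl i⟩ := by
    intro S
    induction S using Finset.induction_on with
    | empty => simpa using hs 0
    | insert i S hi ih =>
      have : (⟨0, 0, ∑ j ∈ insert i S, dl j⟩ : Pauli n) =
          ⟨0, 0, dl i⟩ * ⟨0, 0, ∑ j ∈ S, dl j⟩ := by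
        rw [Finset.sum_insert hi]
        ext k <;> simp
      rw [this, map_mul, map_mul, hZ, ih]
  have hv : ∀ v : B n, v = ∑ i ∈ Finset.univ.filter (fun i => v i = 1), dl i := by
    intro v
    funext k
    rw [Finset.sum_apply, Finset.sum_filter]
    rw [Finset.sum_eq_single k]
    · rcases zmod2_cases (v k) with h | h
      · rw [h]; simp
      · rw [h]; simp
    · intro i _ hik
      rw [dl_ne (Ne.symm hik)]; simp
    · intro h; exact absurd (Finset.mem_univ _) h
  apply MonoidHom.ext
  intro x
  have hx : x = ⟨x.s, 0, 0⟩ * (⟨0, x.a, 0⟩ * ⟨0, 0, x.b⟩) := by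
    ext i <;> simp
  rw [hx, map_mul, map_mul, map_mul, map_mul, hs, hv x.a, hv x.b, hA, hB]

theorem aut_ext {α β : Pauli n ≃* Pauli n} (hX : ∀ i, α ⟨0, dl i, 0⟩ = β ⟨0, dl i, 0⟩)
    (hZ : ∀ i, α ⟨0, 0, dl i⟩ = β ⟨0, 0, dl i⟩) : α = β := by
  have := hom_ext (f := α.toMonoidHom) (g := β.toMonoidHom)
    (by show α _ = β _; rw [aut_z, aut_z]) hX hZ
  apply MulEquiv.ext
  intro x
  exact DFunLike.congr_fun this x

/-- `T` is determined up to sign by the automorphism. -/
theorem clif_unique {R : Type*} [CommRing R] [IsDomain R] (h2 : (2 : R) ≠ 0)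
    {p q : (Pauli n ≃* Pauli n) × ((B n → R) ≃ₗ[R] (B n → R))} (hp : p ∈ clif n R)
    (hq : q ∈ clif n R) (h : p.1 = q.1) : p.2 = q.2 ∨ ∀ f, p.2 f = - q.2 f := by
  obtain ⟨y, hy⟩ := exists_inn h2 (mul_mem hp (inv_mem hq)) (by
    intro x
    have : (p * q⁻¹).1 = 1 := by rw [Prod.fst_mul, Prod.fst_inv, h, mul_inv_cancel]
    rw [this]
    exact ⟨rfl, rfl⟩)
  have h1 : MulAut.conj y = 1 := by
    have := congrArg Prod.fst hy
    rw [Prod.fst_mul, Prod.fst_inv, h, mul_inv_cancel] at this
    exact this.symm
  have hyc : y ∈ Subgroup.center (Pauli n) := by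
    rw [Subgroup.mem_center_iff]
    intro x
    have := DFunLike.congr_fun h1 x
    rw [MulAut.conj_apply, MulAut.one_apply, mul_inv_eq_iff_eq_mul] at this
    exact this.symm
  have hpq : p.2 = rho R y * q.2 := by
    have := congrArg Prod.snd hy
    rw [Prod.snd_mul, Prod.snd_inv, mul_inv_eq_iff_eq_mul] at this
    exact this
  rcases (Pauli.mem_center_iff' y).mp hyc with rfl | rfl
  · left
    rw [hpq, map_one, one_mul]
  · right
    intro f
    rw [hpq]
    exact rho_z R (q.2 f)

end ext

end Cfsg.Agent.Monster.PauliBits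
end
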